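import Groth.Agent.Lib.Helper39.AffCompl.Sch

/-!
# helper39: complement of an affine open of `Spec R` (Noetherian) has codimension ≤ 1 — main
-/

set_option autoImplicit false
universe u
open CategoryTheory CategoryTheory.Limits TensorProduct AlgebraicGeometry Opposite

namespace Groth.Agent.Lib.Helper39.AffCompl

variable {R : CommRingCat.{u}} (U : (Spec R).Opens)

theorem isPowerTorsion_ker [IsNoetherianRing R] :
    LocCoh.IsPowerTorsion (complIdeal R U)
      (LinearMap.ker (Algebra.linearMap R Γ(Spec R, U))) := by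
  refine isPowerTorsion_of_forall_mem _ ((isNoetherianRing_iff_ideal_fg R).1 inferInstance _) ?_
  rintro ⟨x, hx⟩ f hf
  have hx0 : algebraMap R Γ(Spec R, U) x = 0 := hx
  have hDU := basicOpen_le_of_mem U f hf
  have h1 : algebraMap R Γ(Spec R, PrimeSpectrum.basicOpen f) x = 0 := by
    rw [← res_algebraMap hDU x, hx0, map_zero]
  obtain ⟨⟨_, n, rfl⟩, hn⟩ :=
    (IsLocalization.map_eq_zero_iff (Submonoid.powers f)
      Γ(Spec R, PrimeSpectrum.basicOpen f) x).1 h1
  exact ⟨n, Subtype.ext hn⟩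

theorem isPowerTorsion_coker [IsNoetherianRing R] (hU : IsAffineOpen U) :
    LocCoh.IsPowerTorsion (complIdeal R U)
      (Γ(Spec R, U) ⧸ LinearMap.range (Algebra.linearMap R Γ(Spec R, U))) := by
  refine isPowerTorsion_of_forall_mem _ ((isNoetherianRing_iff_ideal_fg R).1 inferInstance _) ?_
  intro q f hf
  obtain ⟨c, rfl⟩ := Submodule.mkQ_surjective _ q
  have hDU := basicOpen_le_of_mem U f hf
  -- the restriction of `c` to `D(f)` is a fraction
  let ρ : Γ(Spec R, U) →+* Γ(Spec R, PrimeSpectrum.basicOpen f) :=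
    ((Spec R).presheaf.map (homOfLE hDU).op).hom
  have hρ : ∀ a : R, ρ (algebraMap R Γ(Spec R, U) a) =
      algebraMap R Γ(Spec R, PrimeSpectrum.basicOpen f) a := res_algebraMap hDU
  obtain ⟨⟨a, ⟨_, n, rfl⟩⟩, hac⟩ := IsLocalization.surj
    (S := Γ(Spec R, PrimeSpectrum.basicOpen f)) (Submonoid.powers f) (ρ c)
  -- `y := φ(f)^n c - φ(a)` restricts to zero on `D(f)`
  set g : Γ(Spec R, U) := algebraMap R Γ(Spec R, U) f with hg
  have hy0 : ρ (c * g ^ n - algebraMap R Γ(Spec R, U) a) = 0 := by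
    rw [map_sub, map_mul, map_pow, hg, hρ, hρ, ← map_pow]
    exact sub_eq_zero.2 hac
  -- restrict further to the basic open of `g`
  have hD' : (Spec R).basicOpen g ≤ PrimeSpectrum.basicOpen f := by
    rw [hg, basicOpen_algebraMap]
    exact inf_le_right
  let ρ' : Γ(Spec R, PrimeSpectrum.basicOpen f) →+* Γ(Spec R, (Spec R).basicOpen g) :=
    ((Spec R).presheaf.map (homOfLE hD').op).hom
  have hcomp : (Spec R).presheaf.map (homOfLE hDU).op ≫ (Spec R).presheaf.map (homOfLE hD').op =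
      (Spec R).presheaf.map (homOfLE ((Spec R).basicOpen_le g)).op := by
    rw [← Functor.map_comp]
    rfl
  have hy1 : algebraMap Γ(Spec R, U) Γ(Spec R, (Spec R).basicOpen g)
      (c * g ^ n - algebraMap R Γ(Spec R, U) a) = 0 := by
    have h2 : algebraMap Γ(Spec R, U) Γ(Spec R, (Spec R).basicOpen g)
        (c * g ^ n - algebraMap R Γ(Spec R, U) a) =
        ρ' (ρ (c * g ^ n - algebraMap R Γ(Spec R, U) a)) := by
      change ((Spec R).presheaf.map (homOfLE ((Spec R).basicOpen_le g)).op).hom _ = _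
      rw [← hcomp]
      rfl
    rw [h2, hy0, map_zero]
  have := hU.isLocalization_basicOpen g
  obtain ⟨⟨_, k, rfl⟩, hk⟩ :=
    (IsLocalization.map_eq_zero_iff (Submonoid.powers g)
      Γ(Spec R, (Spec R).basicOpen g) (c * g ^ n - algebraMap R Γ(Spec R, U) a)).1 hy1
  refine ⟨k + n, ?_⟩
  rw [← map_smul]
  refine (Submodule.Quotient.mk_eq_zero _).2 ?_
  refine ⟨f ^ k * a, ?_⟩
  have hk' : g ^ k * (c * g ^ n - algebraMap R Γ(Spec R, U) a) = 0 := hk
  rw [Algebra.linearMap_apply, Algebra.smul_def, map_mul, map_pow, map_pow, ← hg]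
  rw [mul_sub, sub_eq_zero] at hk'
  rw [← hk', pow_add]
  ring

theorem map_complIdeal_eq_top (hU : IsAffineOpen U) :
    (complIdeal R U).map (algebraMap R Γ(Spec R, U)) = ⊤ := by
  change Ideal.span ((algebraMap R Γ(Spec R, U)) '' (complIdeal R U : Set R)) = ⊤
  rw [← hU.self_le_iSup_basicOpen_iff]
  intro x hx
  obtain ⟨f, hf, hfx⟩ := exists_mem_complIdeal U x hx
  rw [TopologicalSpace.Opens.mem_iSup]
  refine ⟨⟨algebraMap R Γ(Spec R, U) f, f, hf, rfl⟩, ?_⟩
  rw [basicOpen_algebraMap]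
  exact ⟨hx, hfx⟩

theorem height_le_one [IsNoetherianRing R] (hU : IsAffineOpen U) (p : PrimeSpectrum R)
    (hpU : p ∉ U)
    (hmin : ∀ q : PrimeSpectrum R, q.asIdeal ≤ p.asIdeal → q ∉ U → q = p) :
    p.asIdeal.height ≤ 1 := by
  haveI : IsNoetherianRing Γ(Spec R, U) := IsLocallyNoetherian.component_noetherian ⟨U, hU⟩
  refine height_le_one_of_vanishing (complIdeal R U) p.asIdeal ?_ ?_ ?_
  · intro f hf
    by_contra hfp
    exact hpU (mem_of_mem_complIdeal U f hf p hfp)
  · intro q hq hIq hqp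
    have hqU : (⟨q, hq⟩ : PrimeSpectrum R) ∉ U := by
      intro hqU
      obtain ⟨f, hf, hfq⟩ := exists_mem_complIdeal U ⟨q, hq⟩ hqU
      exact hfq (hIq hf)
    exact congrArg PrimeSpectrum.asIdeal (hmin ⟨q, hq⟩ hqp hqU)
  · intro i
    exact subsingleton_H_ring Γ(Spec R, U) (complIdeal R U) (map_complIdeal_eq_top U hU)
      (isPowerTorsion_ker U) (isPowerTorsion_coker U hU) i

end Groth.Agent.Lib.Helper39.AffCompl
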