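import Groth.Agent.Lib.Helper39.AffCompl.Loc
import Mathlib.AlgebraicGeometry.Noetherian
import Mathlib.AlgebraicGeometry.AffineScheme

/-!
# helper39: complement of an affine open of `Spec R` (Noetherian) has codimension ≤ 1
-/

set_option autoImplicit false
universe u
open CategoryTheory CategoryTheory.Limits TensorProduct AlgebraicGeometry Opposite

namespace Groth.Agent.Lib.Helper39.AffCompl

theorem isPowerTorsion_of_forall_mem {A : Type u} [CommRing A] {T : Type u} [AddCommGroup T]
    [Module A T] (I : Ideal A) (hfg : I.FG) (h : ∀ m : T, ∀ f ∈ I, ∃ n : ℕ, f ^ n • m = 0) :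
    LocCoh.IsPowerTorsion I T := by
  intro m
  have hle : I ≤ (Ideal.torsionOf A T m).radical := fun f hf =>
    (h m f hf).imp fun n hn => (Ideal.mem_torsionOf_iff _ _).2 hn
  obtain ⟨n, hn⟩ := Ideal.exists_pow_le_of_le_radical_of_fg hle hfg
  exact ⟨n, fun a ha => (Ideal.mem_torsionOf_iff _ _).1 (hn ha)⟩

variable (R : CommRingCat.{u})

/-- the ideal of functions vanishing on the complement of `U` -/
noncomputable def complIdeal (U : (Spec R).Opens) : Ideal R :=
  PrimeSpectrum.vanishingIdeal {q : PrimeSpectrum R | q ∉ U}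

variable {R} (U : (Spec R).Opens)

theorem mem_complIdeal_of_le (f : R)
    (h : ∀ q : PrimeSpectrum R, f ∉ q.asIdeal → q ∈ U) :
    f ∈ complIdeal R U := by
  rw [complIdeal, PrimeSpectrum.mem_vanishingIdeal]
  intro q hq
  by_contra hfq
  exact hq (h q hfq)

theorem mem_of_mem_complIdeal (f : R) (hf : f ∈ complIdeal R U) (q : PrimeSpectrum R)
    (hq : f ∉ q.asIdeal) : q ∈ U := by
  by_contra hqU
  rw [complIdeal, PrimeSpectrum.mem_vanishingIdeal] at hf
  exact hq (hf q hqU)

theorem basicOpen_le_of_mem (f : R) (hf : f ∈ complIdeal R U) :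
    (PrimeSpectrum.basicOpen f : (Spec R).Opens) ≤ U :=
  fun q hq => mem_of_mem_complIdeal U f hf q hq

theorem exists_mem_complIdeal (x : PrimeSpectrum R) (hx : x ∈ U) :
    ∃ f ∈ complIdeal R U, f ∉ x.asIdeal := by
  have hb : ∀ {U : TopologicalSpace.Opens (PrimeSpectrum R)} {x : PrimeSpectrum R},
      x ∈ U → ∃ U' ∈ Set.range PrimeSpectrum.basicOpen, x ∈ U' ∧ U' ≤ U :=
    TopologicalSpace.Opens.isBasis_iff_nbhd.1 (PrimeSpectrum.isBasis_basic_opens (R := R))
  obtain ⟨V, ⟨f, rfl⟩, hxV, hVU⟩ := @hb U x hx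
  exact ⟨f, mem_complIdeal_of_le U f (fun q hq => hVU hq), hxV⟩

theorem basicOpen_algebraMap (f : R) :
    (Spec R).basicOpen (algebraMap R Γ(Spec R, U) f) = U ⊓ PrimeSpectrum.basicOpen f := by
  rw [IsAffineOpen.algebraMap_Spec_obj, CommRingCat.hom_comp, RingHom.comp_apply]
  erw [Scheme.basicOpen_res, basicOpen_eq_of_affine]

theorem res_algebraMap {V W : (Spec R).Opens} (h : W ≤ V) (a : R) :
    ((Spec R).presheaf.map (homOfLE h).op).hom (algebraMap R Γ(Spec R, V) a) =
      algebraMap R Γ(Spec R, W) a := by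
  rw [IsAffineOpen.algebraMap_Spec_obj, IsAffineOpen.algebraMap_Spec_obj]
  simp only [CommRingCat.hom_comp, RingHom.comp_apply]
  rw [← RingHom.comp_apply, ← CommRingCat.hom_comp, ← Functor.map_comp]
  rfl

end Groth.Agent.Lib.Helper39.AffCompl
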